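import Groth.Agent.AmpleSliceLib.Cut
import Groth.Agent.AffCodimLib.Apply
import Groth.Agent.FibDimLib.Comps
import Groth.Agent.FibDimLib.Formula

/-!
# Dimension of the complement of an affine open in a proper scheme over a field
-/

set_option autoImplicit false
set_option backward.isDefEq.respectTransparency false
set_option backward.isDefEq.respectTransparency.types false

universe u

open CategoryTheory CategoryTheory.Limits AlgebraicGeometry TopologicalSpace Topology

namespace QFactDescLib

/-- A nonempty closed subset of a sober Noetherian space has a maximal point above any of its points. -/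
theorem exists_maximal {A : Type*} [TopologicalSpace A] [QuasiSober A] [T0Space A] {C : Set A} (hC : IsClosed C)
    {a : A} (ha : a ∈ C) : ∃ ξ ∈ C, ξ ⤳ a ∧ ∀ b ∈ C, b ⤳ ξ → b = ξ := by
  haveI : QuasiSober C := hC.isClosedEmbedding_subtypeVal.quasiSober
  have hZ : irreducibleComponent (⟨a, ha⟩ : C) ∈ irreducibleComponents C :=
    irreducibleComponent_mem_irreducibleComponents _
  set Z := irreducibleComponent (⟨a, ha⟩ : C) with hZdef
  have hirr : IsIrreducible Z := hZ.prop
  obtain ⟨g, hg⟩ := QuasiSober.sober hirr (isClosed_of_mem_irreducibleComponents Z hZ)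
  refine ⟨g.1, g.2, ?_, fun b hb hbg => ?_⟩
  · have : g ⤳ (⟨a, ha⟩ : C) := hg.specializes mem_irreducibleComponent
    exact this.map continuous_subtype_val
  · have h1 : (⟨b, hb⟩ : C) ⤳ g := (IsInducing.subtypeVal.specializes_iff).1 hbg
    have hle : Z ⊆ closure {(⟨b, hb⟩ : C)} := by
      rw [← hg]
      exact closure_minimal (Set.singleton_subset_iff.2 (specializes_iff_mem_closure.1 h1)) isClosed_closure
    have heq : closure {(⟨b, hb⟩ : C)} ⊆ Z := hZ.le_of_ge isIrreducible_singleton.closure hle
    have h2 : g ⤳ (⟨b, hb⟩ : C) := hg.specializes (heq (subset_closure rfl))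
    exact congrArg Subtype.val (h1.antisymm h2).eq

/-- Removing all maximal points drops the dimension. -/
theorem dim_drop {A : Type*} [TopologicalSpace A] [QuasiSober A] [T0Space A] {F G : Set A} (hF : IsClosed F)
    (hG : IsClosed G) (hGF : G ⊆ F) (hmax : ∀ ξ ∈ F, (∀ b ∈ F, b ⤳ ξ → b = ξ) → ξ ∉ G) {m : ℕ}
    (hm : topologicalKrullDim F ≤ ((m + 1 : ℕ) : WithBot ℕ∞)) :
    topologicalKrullDim G ≤ (m : WithBot ℕ∞) := by
  haveI : QuasiSober G := hG.isClosedEmbedding_subtypeVal.quasiSober
  haveI : QuasiSober F := hF.isClosedEmbedding_subtypeVal.quasiSober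
  by_contra hlt
  have h1 : ((m + 1 : ℕ) : WithBot ℕ∞) ≤ topologicalKrullDim G := by
    rw [not_le] at hlt
    revert hlt
    generalize topologicalKrullDim G = d
    induction d using WithBot.recBotCoe with
    | bot => simp
    | coe e =>
      induction e using ENat.recTopCoe with
      | top => simp
      | coe e => intro h; norm_cast at h ⊢
  obtain ⟨c, hc⟩ := FibDimLib.exists_specChain h1
  obtain ⟨ξ, hξF, hξc, hξ⟩ := exists_maximal hF (hGF (c 0).2)
  have hcv : FibDimLib.IsSpecChain (Fin.cons (⟨ξ, hξF⟩ : F) fun i => (⟨(c i).1, hGF (c i).2⟩ : F)) := by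
    refine ⟨Fin.cons_injective_iff.2 ⟨?_, ?_⟩, ?_⟩
    · rintro ⟨i, hi⟩
      have hi' : (c i).1 = ξ := congrArg Subtype.val hi
      exact hmax ξ hξF hξ (hi' ▸ (c i).2)
    · exact fun i j h => hc.1 (Subtype.ext (congrArg Subtype.val h :))
    · intro i j hij
      rw [← IsInducing.subtypeVal.specializes_iff]
      induction i using Fin.cases with
      | zero =>
        induction j using Fin.cases with
        | zero => exact specializes_rfl
        | succ j =>
          simp only [Fin.cons_zero, Fin.cons_succ]
          exact hξc.trans ((hc.2 0 j (Fin.zero_le _)).map continuous_subtype_val)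
      | succ i =>
        induction j using Fin.cases with
        | zero => exact absurd hij (by simp)
        | succ j =>
          simp only [Fin.cons_succ]
          exact (hc.2 i j (Fin.succ_le_succ_iff.1 hij)).map continuous_subtype_val
  have := hcv.le_topologicalKrullDim.trans hm
  norm_cast at this
  omega

variable {k : Type u} [Field k]

/-- In a proper scheme over a field the complement of an affine open cuts the dimension by at most one. -/
theorem dim_cut_affine {X : Scheme.{u}} (f : X ⟶ Spec (CommRingCat.of k)) [IsProper f] {O : X.Opens}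
    (hO : IsAffineOpen O) {T : Set X} (hT : IsClosed T) {r : ℕ}
    (hdim : ((r + 1 : ℕ) : WithBot ℕ∞) ≤ topologicalKrullDim T) :
    ((r : ℕ) : WithBot ℕ∞) ≤ topologicalKrullDim ↥(T \ (O : Set X)) := by
  haveI : QuasiSober T := hT.isClosedEmbedding_subtypeVal.quasiSober
  obtain ⟨c, hc⟩ := FibDimLib.exists_specChain hdim
  let x₀ : X := (c 0 : X)
  obtain ⟨Z, i, hi, hZ, hr⟩ := DevissLib.exists_integral_closed (isClosed_closure (s := ({x₀} : Set X)))
    isIrreducible_singleton.closure
  haveI := hi; haveI := hZ
  have hZT : ∀ z : Z, i z ∈ T := fun z =>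
    (closure_minimal (Set.singleton_subset_iff.2 (c 0).2) hT) (hr.le ⟨z, rfl⟩)
  have hmem : ∀ j, (c j : X) ∈ Set.range i := fun j => by
    rw [hr]
    exact specializes_iff_mem_closure.1 ((hc.2 0 j (Fin.zero_le _)).map continuous_subtype_val)
  choose z hz using hmem
  have hchain : FibDimLib.IsSpecChain z := by
    refine ⟨fun a b h => hc.1 (Subtype.ext (by rw [← hz a, ← hz b, h])), fun a b h => ?_⟩
    rw [← i.isEmbedding.isInducing.specializes_iff, hz a, hz b]
    exact (hc.2 a b h).map continuous_subtype_val
  haveI : IsProper (i ≫ f) := inferInstance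
  obtain ⟨n, hn⟩ := LichtLib.exists_dim (i ≫ f)
  have hle := hchain.le_topologicalKrullDim
  rw [hn] at hle
  have hrn : r + 1 ≤ n := by exact_mod_cast hle
  haveI : Z.IsSeparated := ⟨by
    rw [Subsingleton.elim (terminal.from Z) ((i ≫ f) ≫ terminal.from _)]; infer_instance⟩
  haveI : IsLocallyNoetherian Z := LocallyOfFiniteType.isLocallyNoetherian (i ≫ f)
  set U : Z.Opens := i ⁻¹ᵁ O with hU
  have hUa : IsAffineOpen U := hO.preimage i
  obtain ⟨w, hw⟩ : ∃ w : Z, w ∉ U := by
    by_contra h
    push Not at h
    rw [show U = ⊤ from top_le_iff.1 fun y _ => h y] at hUa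
    haveI : IsAffine (⊤ : Z.Opens).toScheme := hUa
    haveI : IsAffine Z := .of_isIso Z.topIso.inv
    refine AmpleSliceLib.not_isAffine (i ≫ f) ?_ inferInstance
    rw [hn]; exact_mod_cast (show 1 ≤ n by omega)
  obtain ⟨ξ, hξC, -, hξ⟩ := exists_maximal U.isOpen.isClosed_compl hw
  haveI : IsAffine U.toScheme := hUa
  haveI : IsSeparated (terminal.from Z) := Scheme.isSeparated_iff _ |>.1 inferInstance
  haveI : IsAffineHom (U.ι ≫ terminal.from Z) := inferInstance
  haveI : IsAffineHom U.ι := IsAffineHom.of_comp U.ι (terminal.from Z)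
  have h1 : ringKrullDim (Z.presheaf.stalk ξ) ≤ 1 :=
    AffCodimLib.dim_le_one_of_affine U ξ hξC fun y hy hyξ => hξ y hy hyξ
  have h2 := FibDimLib.localDim_eq_closure_add_stalk (i ≫ f) ξ
  rw [FibDimLib.localDim_of_irreducible (i ≫ f) ξ, hn] at h2
  have h3 : (r : WithBot ℕ∞) ≤ topologicalKrullDim (closure ({ξ} : Set Z)) := by
    revert h2 h1
    generalize topologicalKrullDim (closure ({ξ} : Set Z)) = a
    generalize ringKrullDim (Z.presheaf.stalk ξ) = b
    intro h1 h2
    induction a using WithBot.recBotCoe with
    | bot => simp at h2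
    | coe a =>
      induction b using WithBot.recBotCoe with
      | bot => simp at h2
      | coe b =>
        induction a using ENat.recTopCoe with
        | top => exact_mod_cast le_top (α := ℕ∞)
        | coe a =>
          induction b using ENat.recTopCoe with
          | top =>
            rw [WithBot.coe_le_one, top_le_iff] at h1
            simp at h1
          | coe b =>
            norm_cast at h1 h2 ⊢
            omega
  refine h3.trans (IsInducing.topologicalKrullDim_le
    (f := fun y : ↥(closure ({ξ} : Set Z)) => (⟨i y.1, hZT y.1, fun hy => ?_⟩ : ↥(T \ (O : Set X)))) ?_)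
  · exact (closure_minimal (Set.singleton_subset_iff.2 hξC) U.isOpen.isClosed_compl y.2) hy
  · exact .of_comp (by fun_prop) (by fun_prop : Continuous fun a : ↥(T \ (O : Set X)) => a.1)
      (i.isEmbedding.isInducing.comp IsInducing.subtypeVal)

end QFactDescLib
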