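import Mathlib
import Groth.Agent.NormalLib.Serre

/-!
# Algebra for descending principal divisors along finite maps
-/

set_option autoImplicit false
set_option backward.isDefEq.respectTransparency false
set_option backward.isDefEq.respectTransparency.types false

universe u

open Polynomial Function

namespace QFactDescLib

/-- The zero set of the constant coefficient of the minimal polynomial is the image of the zero set. -/
theorem coeff_zero_mem_iff {A B : Type u} [CommRing A] [IsDomain A] [IsIntegrallyClosed A] [CommRing B] [IsDomain B]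
    [Algebra A B] [Algebra.IsIntegral A B] (hinj : Function.Injective (algebraMap A B)) (f : B) (q : Ideal A)
    [hq : q.IsPrime] :
    (minpoly A f).coeff 0 ∈ q ↔ ∃ Q : Ideal B, Q.IsPrime ∧ Q.comap (algebraMap A B) = q ∧ f ∈ Q := by
  haveI : Module.IsTorsionFree A B :=
    Module.isTorsionFree_iff_smul_eq_zero.2 fun a b h => by
      rw [Algebra.smul_def, mul_eq_zero, map_eq_zero_iff _ hinj] at h
      exact h
  have hf : IsIntegral A f := Algebra.IsIntegral.isIntegral f
  constructor
  · intro hc
    let φ₀ : AdjoinRoot (minpoly A f) →+* A ⧸ q := AdjoinRoot.lift (Ideal.Quotient.mk q) 0 (by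
      rw [eval₂_at_zero]; exact Ideal.Quotient.eq_zero_iff_mem.2 hc)
    let e := minpoly.equivAdjoin hf
    let φ : Algebra.adjoin A ({f} : Set B) →+* A ⧸ q := φ₀.comp e.symm.toRingEquiv.toRingHom
    have hP : (RingHom.ker φ).IsPrime := RingHom.ker_isPrime φ
    have hfP : (⟨f, Algebra.subset_adjoin (Set.mem_singleton f)⟩ : Algebra.adjoin A ({f} : Set B)) ∈
        RingHom.ker φ := by
      have : e (AdjoinRoot.root _) = ⟨f, Algebra.subset_adjoin (Set.mem_singleton f)⟩ := by
        apply Subtype.ext
        show ((AdjoinRoot.Minpoly.toAdjoin A f (AdjoinRoot.mk _ X) : Algebra.adjoin A ({f} : Set B)) : B) = f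
        exact AdjoinRoot.Minpoly.coe_toAdjoin_mk_X
      rw [RingHom.mem_ker, ← this]
      show φ₀ (e.symm (e (AdjoinRoot.root _))) = 0
      rw [AlgEquiv.symm_apply_apply]
      exact AdjoinRoot.lift_root _
    haveI : Algebra.IsIntegral (Algebra.adjoin A ({f} : Set B)) B := Algebra.IsIntegral.tower_top A
    have hker : RingHom.ker (algebraMap (Algebra.adjoin A ({f} : Set B)) B) ≤ RingHom.ker φ := by
      intro z hz
      have : z = 0 := Subtype.ext hz
      rw [this]; exact zero_mem _
    obtain ⟨Q, hQ, hQc⟩ := Ideal.exists_ideal_over_prime_of_isIntegral_of_isDomain (S := B) (RingHom.ker φ) hker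
    refine ⟨Q, hQ, ?_, ?_⟩
    · rw [IsScalarTower.algebraMap_eq A (Algebra.adjoin A ({f} : Set B)) B, ← Ideal.comap_comap, hQc]
      ext a
      rw [Ideal.mem_comap, RingHom.mem_ker]
      show φ₀ (e.symm (algebraMap A _ a)) = 0 ↔ _
      rw [AlgEquiv.commutes, AdjoinRoot.algebraMap_eq, AdjoinRoot.lift_of]
      exact Ideal.Quotient.eq_zero_iff_mem
    · rw [← hQc] at hfP
      exact hfP
  · rintro ⟨Q, hQ, hQc, hfQ⟩
    rw [← hQc, Ideal.mem_comap]
    have h0 : aeval f (minpoly A f) = 0 := minpoly.aeval A f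
    conv at h0 => lhs; rw [← X_mul_divX_add (minpoly A f)]
    rw [map_add, map_mul, aeval_X, aeval_C] at h0
    rw [eq_neg_of_add_eq_zero_right h0]
    exact neg_mem (Ideal.mul_mem_right _ _ hfQ)

/-- An element of an ideal which is nonzero in the fibres at finitely many maximal ideals. -/
theorem exists_mem_notMem {R : Type u} [CommRing R] [IsDomain R] (I : Ideal R) (hI : I ≠ ⊥) (hfg : I.FG)
    {ι : Type u} [Finite ι] (m : ι → Ideal R) (hm : ∀ i, (m i).IsMaximal) (hinj : Function.Injective m) :
    ∃ f ∈ I, ∀ i, ∀ t ∉ m i, t * f ∉ m i * I := by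
  classical
  haveI := Fintype.ofFinite ι
  have key : ∀ i, ∃ a ∈ I, a ∉ m i * I := fun i => by
    by_contra h
    push Not at h
    have hle : I ≤ m i • I := h
    obtain ⟨r, hr, hr'⟩ := Submodule.exists_mem_and_smul_eq_self_of_fg_of_le_smul (m i) I hfg hle
    obtain ⟨x, hx, hx0⟩ := Submodule.exists_mem_ne_zero_of_ne_bot hI
    have := hr' x hx
    rw [smul_eq_mul] at this
    exact (hm i).ne_top ((Ideal.eq_top_iff_one _).2 ((mul_eq_right₀ hx0).1 this ▸ hr))
  choose a haI ha using key
  have hcop : Pairwise (IsCoprime on m) := fun i j hij =>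
    Ideal.isCoprime_iff_sup_eq.2 ((hm i).coprime_of_ne (hm j) fun h => hij (hinj h))
  choose e he using fun j => Ideal.exists_forall_sub_mem_ideal hcop (Pi.single j (1 : R))
  refine ⟨∑ j, e j * a j, Ideal.sum_mem _ fun j _ => Ideal.mul_mem_left _ _ (haI j), fun i t ht h => ha i ?_⟩
  have h1 : (∑ j, e j * a j) - a i ∈ m i * I := by
    have : (∑ j, e j * a j) - a i = ∑ j, (e j - Pi.single (M := fun _ => R) j 1 i) * a j := by
      simp [sub_mul, Finset.sum_sub_distrib, Pi.single_apply]
    rw [this]
    exact Ideal.sum_mem _ fun j _ => Ideal.mul_mem_mul (he j i) (haI j)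
  obtain ⟨w, v, hv, huv⟩ := (hm i).exists_inv ht
  have hta : t * a i ∈ m i * I := by
    have := sub_mem h (Ideal.mul_mem_left _ t h1)
    rw [← mul_sub, sub_sub_cancel] at this
    exact this
  have : a i = w * (t * a i) + v * a i := by linear_combination (-(a i)) * huv
  rw [this]
  exact add_mem (Ideal.mul_mem_left _ _ hta) (Ideal.mul_mem_mul hv (haI i))

variable {A : Type u} [CommRing A] [IsDomain A] [IsNoetherianRing A] [IsIntegrallyClosed A]
  (P : Ideal A) [P.IsPrime] (L : Type u) [CommRing L] [Algebra A L] [IsLocalization.AtPrime L P]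
  [IsDomain L] [IsDiscreteValuationRing L]

/-- An element whose only minimal prime is `P` has positive order there. -/
theorem exists_ord {h : A} (hh : h ∈ P) (h0 : h ≠ 0) :
    ∃ n, 0 < n ∧ IsLocalRing.maximalIdeal L ^ n = Ideal.span {algebraMap A L h} := by
  have hinj : Function.Injective (algebraMap A L) :=
    IsLocalization.injective L P.primeCompl_le_nonZeroDivisors
  have hne : Ideal.span {algebraMap A L h} ≠ ⊥ := by
    rw [Ne, Ideal.span_singleton_eq_bot, map_eq_zero_iff _ hinj]; exact h0
  obtain ⟨ϖ, hϖ⟩ := IsDiscreteValuationRing.exists_irreducible L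
  obtain ⟨n, hn⟩ := IsDiscreteValuationRing.ideal_eq_span_pow_irreducible hne hϖ
  have hm : IsLocalRing.maximalIdeal L ^ n = Ideal.span {algebraMap A L h} := by
    rw [hn, hϖ.maximalIdeal_eq, Ideal.span_singleton_pow]
  refine ⟨n, Nat.pos_of_ne_zero fun hz => ?_, hm⟩
  rw [hz, pow_zero, Ideal.one_eq_top, eq_comm, Ideal.span_singleton_eq_top] at hm
  exact ((IsLocalization.AtPrime.isUnit_to_map_iff L P h).1 hm) hh

/-- If `P` is the only height one prime containing `h`, orders at `P` detect divisibility by powers of `h`. -/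
theorem dvd_iff_mem_pow (hP : P.height = 1) {h : A} (hh : ∀ q : Ideal A, q.IsPrime → (h ∈ q ↔ P ≤ q)) {n : ℕ}
    (hn : IsLocalRing.maximalIdeal L ^ n = Ideal.span {algebraMap A L h}) (k : ℕ) (a : A) :
    algebraMap A L a ∈ IsLocalRing.maximalIdeal L ^ (n * k) ↔ a ∈ Ideal.span {h ^ k} := by
  rw [pow_mul, hn, Ideal.span_singleton_pow, ← map_pow]
  refine ⟨fun hmem => ?_, fun hmem => ?_⟩
  · obtain ⟨b, hb⟩ := Ideal.mem_span_singleton'.1 hmem
    obtain ⟨⟨c, s⟩, hcs⟩ := IsLocalization.surj P.primeCompl b
    have hinj : Function.Injective (algebraMap A L) :=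
      IsLocalization.injective L P.primeCompl_le_nonZeroDivisors
    have hsa : (s : A) * a ∈ Ideal.span {h ^ k} := by
      refine Ideal.mem_span_singleton'.2 ⟨c, hinj ?_⟩
      rw [map_mul, map_mul, ← hcs, ← hb]
      ring
    by_contra hna
    have h0 : h ^ k ≠ 0 := by
      intro h0
      have hh0 : h = 0 := (pow_eq_zero_iff' (n := k)).1 h0 |>.1
      have : P ≤ ⊥ := (hh ⊥ Ideal.isPrime_bot).1 (by simp [hh0])
      rw [le_bot_iff.1 this, Ideal.height_bot] at hP
      exact zero_ne_one hP
    obtain ⟨P', hP', hle⟩ := exists_le_isAssociatedPrime_of_isNoetherianRing A (Ideal.Quotient.mk (Ideal.span {h ^ k}) a)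
      (by rwa [Ne, Ideal.Quotient.eq_zero_iff_mem])
    have hht : P'.height = 1 := NormalLib.height_eq_one_of_mem_associatedPrimes h0 hP'
    haveI := hP'.isPrime
    have hann : ∀ t : A, t * a ∈ Ideal.span {h ^ k} → t ∈ P' := fun t ht => hle (by
      rw [Submodule.mem_colon_singleton, Submodule.mem_bot]
      exact Ideal.Quotient.eq_zero_iff_mem.2 ht)
    have hhP : h ∈ P' := hP'.isPrime.mem_of_pow_mem k
      (hann _ (Ideal.mul_mem_right _ _ (Ideal.mem_span_singleton_self _)))
    have hPP : P ≤ P' := (hh P' hP'.isPrime).1 hhP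
    have : P = P' := by
      by_contra hne
      have := Ideal.height_strict_mono_of_isPrime (lt_of_le_of_ne hPP hne)
      rw [hP, hht] at this
      exact lt_irrefl _ this
    refine (show (s : A) ∉ P from s.2) ?_
    simpa only [this] using hann _ hsa
  · obtain ⟨b, rfl⟩ := Ideal.mem_span_singleton'.1 hmem
    rw [map_mul]
    exact Ideal.mul_mem_left _ _ (Ideal.mem_span_singleton_self _)

end QFactDescLib
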