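import Groth.Agent.QFactDescLib.Section
import Groth.Agent.QFactDescLib.Alg
import Groth.Agent.LocFFLib.Basic
import Groth.Agent.AmpleDevLib.Components
import Groth.Agent.S5769

/-!
# Local equations of images of Cartier divisors under quasi-sections
-/

set_option autoImplicit false
set_option backward.isDefEq.respectTransparency false
set_option backward.isDefEq.respectTransparency.types false
set_option maxHeartbeats 1000000

universe u

open CategoryTheory CategoryTheory.Limits AlgebraicGeometry TopologicalSpace Topology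

namespace QFactDescLib

variable {X Y : Scheme.{u}}

theorem dim_ne_zero [IsIntegral X] (ξ : X) (h : ξ ≠ genericPoint X) : ringKrullDim (X.presheaf.stalk ξ) ≠ 0 := by
  intro h0
  haveI : Ring.KrullDimLE 0 (X.presheaf.stalk ξ) := by
    rw [Ring.krullDimLE_iff, h0]; rfl
  have hfld : IsField (X.presheaf.stalk ξ) := Ring.KrullDimLE.isField_of_isDomain
  obtain ⟨p, hp⟩ : genericPoint X ∈ Set.range (X.fromSpecStalk ξ) := by
    rw [Scheme.range_fromSpecStalk]
    exact genericPoint_specializes ξ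
  have : p = IsLocalRing.closedPoint _ := by
    letI := hfld.toField
    exact Subsingleton.elim (α := PrimeSpectrum (X.presheaf.stalk ξ)) _ _
  rw [this, Scheme.fromSpecStalk_closedPoint] at hp
  exact h hp

/-- A maximal point of a fibre has dimension at most that of its image. -/
theorem dim_le_of_maximal [IsLocallyNoetherian X] [IsLocallyNoetherian Y] (π : X ⟶ Y) (ξ : X)
    (hmax : ∀ b : X, π b = π ξ → b ⤳ ξ → b = ξ) :
    ringKrullDim (X.presheaf.stalk ξ) ≤ ringKrullDim (Y.presheaf.stalk (π ξ)) := by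
  letI : Algebra (Y.presheaf.stalk (π ξ)) (X.presheaf.stalk ξ) := (π.stalkMap ξ).hom.toAlgebra
  haveI : IsLocalHom (algebraMap (Y.presheaf.stalk (π ξ)) (X.presheaf.stalk ξ)) :=
    inferInstanceAs (IsLocalHom (π.stalkMap ξ).hom)
  have h := Groth.Agent.S5769.result (Y.presheaf.stalk (π ξ)) (X.presheaf.stalk ξ)
  set m := (IsLocalRing.maximalIdeal (Y.presheaf.stalk (π ξ))).map
    (algebraMap (Y.presheaf.stalk (π ξ)) (X.presheaf.stalk ξ)) with hm
  have hprime : ∀ P : Ideal (X.presheaf.stalk ξ), P.IsPrime → m ≤ P → P = IsLocalRing.maximalIdeal _ := by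
    intro P hP hmP
    let p : Spec (X.presheaf.stalk ξ) := ⟨P, hP⟩
    have hπp : π (X.fromSpecStalk ξ p) = π ξ := by
      rw [← Scheme.Hom.comp_apply, ← Scheme.SpecMap_stalkMap_fromSpecStalk, Scheme.Hom.comp_apply]
      have : Spec.map (π.stalkMap ξ) p = IsLocalRing.closedPoint (Y.presheaf.stalk (π ξ)) := by
        refine PrimeSpectrum.ext (le_antisymm ?_ (Ideal.map_le_iff_le_comap.1 hmP))
        exact IsLocalRing.le_maximalIdeal (Ideal.comap_ne_top _ hP.ne_top)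
      rw [this, Scheme.fromSpecStalk_closedPoint]
    have hspec : X.fromSpecStalk ξ p ⤳ ξ := by
      have h1 : X.fromSpecStalk ξ p ∈ Set.range (X.fromSpecStalk ξ) := ⟨p, rfl⟩
      rwa [Scheme.range_fromSpecStalk] at h1
    have hp : p = IsLocalRing.closedPoint (X.presheaf.stalk ξ) := by
      apply (X.fromSpecStalk ξ).isEmbedding.injective
      rw [hmax _ hπp hspec]
      exact (Scheme.fromSpecStalk_closedPoint ..).symm
    exact congrArg PrimeSpectrum.asIdeal hp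
  have h0 : ringKrullDim (X.presheaf.stalk ξ ⧸ m) ≤ 0 := by
    haveI : Ring.KrullDimLE 0 (X.presheaf.stalk ξ ⧸ m) := Ring.KrullDimLE.mk₀ fun Q hQ => by
      haveI := hQ
      have h1 := hprime (Q.comap (Ideal.Quotient.mk m)) inferInstance
        (fun z hz => by rw [Ideal.mem_comap, Ideal.Quotient.eq_zero_iff_mem.2 hz]; exact Q.zero_mem)
      obtain ⟨J, hJ, hQJ⟩ := Ideal.exists_le_maximal Q hQ.ne_top
      haveI := hJ.isPrime
      have h2 := hprime (J.comap (Ideal.Quotient.mk m)) inferInstance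
        (fun z hz => by rw [Ideal.mem_comap, Ideal.Quotient.eq_zero_iff_mem.2 hz]; exact J.zero_mem)
      rwa [Ideal.comap_injective_of_surjective _ Ideal.Quotient.mk_surjective (h1.trans h2.symm)]
    exact Ring.krullDimLE_iff.1 inferInstance
  exact h.trans ((add_le_add le_rfl h0).trans (add_zero _).le)

theorem finite_app_of_le {W : Scheme.{u}} (g : W ⟶ Y) {V' V : Y.Opens} [IsFinite (g ∣_ V')] (hV : IsAffineOpen V)
    (hle : V ≤ V') : (g.app V).hom.Finite := by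
  have key : ∀ (V'' : V'.toScheme.Opens), IsAffineOpen V'' → ∀ U : Y.Opens, V'.ι ''ᵁ V'' = U →
      (g.app U).hom.Finite := by
    intro V'' h'' U hU
    subst hU
    have h := (g ∣_ V').finite_app V'' h''
    rw [morphismRestrict_app, CommRingCat.hom_comp] at h
    exact (RingHom.finite_respectsIso.cancel_right_isIso _ _).1 h
  refine key (V'.ι ⁻¹ᵁ V) (hV.preimage_of_isOpenImmersion V'.ι (by rw [Scheme.Opens.opensRange_ι]; exact hle)) V ?_
  rw [Scheme.Hom.image_preimage_eq_opensRange_inf, Scheme.Opens.opensRange_ι]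
  exact inf_eq_right.2 hle

theorem mem_primeIdealOf_iff {U : X.Opens} (hU : IsAffineOpen U) {x : X} (hx : x ∈ U) (r : Γ(X, U)) :
    r ∈ (hU.primeIdealOf ⟨x, hx⟩).asIdeal ↔ x ∉ X.basicOpen r := by
  have h : hU.primeIdealOf ⟨x, hx⟩ ∈ hU.fromSpec ⁻¹ᵁ X.basicOpen r ↔ x ∈ X.basicOpen r := by
    show hU.fromSpec (hU.primeIdealOf ⟨x, hx⟩) ∈ X.basicOpen r ↔ _
    rw [hU.fromSpec_primeIdealOf]
  rw [hU.fromSpec_preimage_basicOpen] at h
  rw [← h]
  exact not_not.symm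

/-- An element of an invertible ideal outside `𝔪 I` cuts out the support near the point. -/
theorem exists_nbhd_cut [IsIntegral X] (I : X.IdealSheafData) (hI : FGA.IsEffCartier I) {O : X.Opens}
    (hO : IsAffineOpen O) {s : X} (hs : s ∈ O) {f : Γ(X, O)} (hf : f ∈ I.ideal ⟨O, hO⟩)
    (hfm : ∀ t ∉ (hO.primeIdealOf ⟨s, hs⟩).asIdeal,
      t * f ∉ (hO.primeIdealOf ⟨s, hs⟩).asIdeal * I.ideal ⟨O, hO⟩) :
    ∃ N : X.Opens, s ∈ N ∧ N ≤ O ∧ ∀ x ∈ N, x ∈ I.support ↔ x ∉ X.basicOpen f := by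
  obtain ⟨U, hsU, a, -, hIa⟩ := hI s
  obtain ⟨t, t', htt, hst⟩ := exists_basicOpen_le_affine_inter hO U.2 s ⟨hs, hsU⟩
  haveI := hO.isLocalization_basicOpen t
  have hDO : X.basicOpen t ≤ O := X.basicOpen_le t
  have hDU : X.basicOpen t ≤ U.1 := htt ▸ X.basicOpen_le t'
  set D : X.affineOpens := ⟨X.basicOpen t, hO.basicOpen t⟩ with hD
  set ρ := (X.presheaf.map (homOfLE hDO).op).hom with hρ
  set ρ' := (X.presheaf.map (homOfLE hDU).op).hom with hρ'
  have hI1 : (I.ideal ⟨O, hO⟩).map (algebraMap Γ(X, O) Γ(X, X.basicOpen t)) = I.ideal D := by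
    exact I.map_ideal (U := D) (V := ⟨O, hO⟩) hDO
  have hI2 : Ideal.span {ρ' a} = I.ideal D := by
    rw [← I.map_ideal (U := D) (V := U) hDU, hIa, Ideal.map_span, Set.image_singleton]
    rfl
  have hρf : ρ f ∈ I.ideal D := hI1 ▸ Ideal.mem_map_of_mem _ hf
  obtain ⟨c, hc⟩ := Ideal.mem_span_singleton'.1 (hI2.symm ▸ hρf)
  have hsD : s ∈ X.basicOpen c := by
    by_contra hsc
    obtain ⟨⟨c₀, τ⟩, hc₀⟩ := IsLocalization.surj (Submonoid.powers t) c
    have ha : ρ' a ∈ (I.ideal ⟨O, hO⟩).map (algebraMap Γ(X, O) Γ(X, X.basicOpen t)) :=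
      hI1 ▸ hI2 ▸ Ideal.mem_span_singleton_self _
    obtain ⟨⟨i₀, σ⟩, hi₀⟩ := (IsLocalization.mem_map_algebraMap_iff (Submonoid.powers t) _).1 ha
    have hmem : ∀ τ : Submonoid.powers t, (τ : Γ(X, O)) ∉ (hO.primeIdealOf ⟨s, hs⟩).asIdeal := by
      rintro ⟨_, n, rfl⟩ h
      exact (mem_primeIdealOf_iff hO hs t).1 ((hO.primeIdealOf ⟨s, hs⟩).isPrime.mem_of_pow_mem n h) hst
    have hc₀m : c₀ ∈ (hO.primeIdealOf ⟨s, hs⟩).asIdeal := by
      refine (mem_primeIdealOf_iff hO hs c₀).2 fun h => hsc ?_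
      have : s ∈ X.basicOpen (ρ c₀) := by
        rw [hρ, Scheme.basicOpen_res]; exact ⟨hst, h⟩
      rw [show ρ c₀ = c * algebraMap Γ(X, O) Γ(X, X.basicOpen t) τ from hc₀.symm, Scheme.basicOpen_mul] at this
      exact this.1
    have heq : algebraMap Γ(X, O) Γ(X, X.basicOpen t) (((τ : Γ(X, O)) * σ) * f) =
        algebraMap Γ(X, O) Γ(X, X.basicOpen t) (c₀ * i₀) := by
      rw [map_mul, map_mul, map_mul, ← hc₀, ← hi₀, show algebraMap Γ(X, O) Γ(X, X.basicOpen t) f = c * ρ' a from hc.symm]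
      ring
    obtain ⟨ν, hν⟩ := (IsLocalization.eq_iff_exists (Submonoid.powers t) _).1 heq
    refine hfm ((ν : Γ(X, O)) * ((τ : Γ(X, O)) * σ)) (fun h => ?_) ?_
    · exact hmem (ν * (τ * σ)) (by simpa using h)
    · rw [mul_assoc, hν]
      exact Ideal.mul_mem_left _ _ (Ideal.mul_mem_mul hc₀m i₀.2)
  refine ⟨X.basicOpen c, hsD, (X.basicOpen_le c).trans hDO, fun x hx => ?_⟩
  have hxD : x ∈ X.basicOpen t := X.basicOpen_le c hx
  have h1 : x ∈ I.support ↔ x ∈ X.zeroLocus (U := D.1) (I.ideal D : Set Γ(X, D.1)) := by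
    have h := Set.ext_iff.1 (I.coe_support_inter D) x
    exact ⟨fun hx' => (h.1 ⟨hx', hxD⟩).1, fun hx' => (h.2 ⟨hx', hxD⟩).1⟩
  rw [h1, ← hI2, Scheme.zeroLocus_span, Scheme.mem_zeroLocus_iff]
  simp only [Set.mem_singleton_iff, forall_eq]
  have h2 : x ∈ X.basicOpen (ρ f) ↔ x ∈ X.basicOpen f := by
    rw [hρ, Scheme.basicOpen_res]; exact ⟨And.right, fun h => ⟨hxD, h⟩⟩
  rw [← h2, ← hc, Scheme.basicOpen_mul]
  exact ⟨fun h h' => h h'.2, fun h h' => h ⟨hx, h'⟩⟩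

/-- Near a closed point of `cl η` the divisor `cl η` is set theoretically principal. -/
theorem exists_local_equation [IsNoetherian X] [IsNoetherian Y] [IsIntegral X] [IsIntegral Y]
    (hYn : Pi1.IsNormalScheme Y) (π : X ⟶ Y) (hπ : RelProj.IsLocallyProjective π) [Surjective π]
    (d : ℕ) (hd : ∀ y : Y, topologicalKrullDim (↥(π.fiber y) : Type u) = d)
    (hX : ∀ ξ : X, ringKrullDim (X.presheaf.stalk ξ) = 1 →
      ∃ I : X.IdealSheafData, FGA.IsEffCartier I ∧ (I.support : Set X) = closure {ξ})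
    (η : Y) (hη : ringKrullDim (Y.presheaf.stalk η) = 1) (y : Y) (hy : IsClosed ({y} : Set Y)) :
    ∃ V : Y.Opens, IsAffineOpen V ∧ y ∈ V ∧ ∃ h : Γ(Y, V), ∀ z ∈ V, (z ∉ Y.basicOpen h ↔ η ⤳ z) := by
  haveI := isProper hπ
  obtain ⟨z₀, hz₀, hfin⟩ := exists_quasiSection hπ d hd y hy
  -- the quasi-section
  let C : Closeds X := ⟨closure {z₀}, isClosed_closure⟩
  let W := (Scheme.IdealSheafData.vanishingIdeal C).subscheme
  let w : W ⟶ X := (Scheme.IdealSheafData.vanishingIdeal C).subschemeι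
  haveI : IsIntegral W := AmpleDevLib.isIntegral_vanishingIdeal C isIrreducible_singleton.closure
  have hwr : Set.range w = closure {z₀} := (Scheme.IdealSheafData.vanishingIdeal C).range_subschemeι.trans
    (Scheme.IdealSheafData.coe_support_vanishingIdeal C)
  haveI : IsClosedImmersion w := inferInstance
  set g : W ⟶ Y := w ≫ π with hg
  have hgfin : (g ⁻¹' {y}).Finite := by
    refine (hfin.preimage w.isEmbedding.injective.injOn).subset fun p hp => ⟨hwr ▸ ⟨p, rfl⟩, ?_⟩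
    exact (Scheme.Hom.comp_apply w π p).symm.trans hp
  have hgsurj : ∀ v : Y, ∃ p, g p = v := fun v => by
    obtain ⟨p₀, hp₀⟩ := (hwr.symm ▸ subset_closure rfl : z₀ ∈ Set.range w)
    have hgen : genericPoint Y ∈ Set.range g := ⟨p₀, by rw [hg, Scheme.Hom.comp_apply, hp₀, hz₀]⟩
    exact g.isClosedMap.isClosed_range.stableUnderSpecialization (genericPoint_specializes v) hgen
  obtain ⟨V', hyV', hV'⟩ := exists_isFinite_morphismRestrict_of_finite_preimage_singleton g y hgfin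
  -- the components of the fibre over η
  haveI : NoetherianSpace (π.fiber η) := (π.fiberι η).isEmbedding.isInducing.noetherianSpace
  have hΞfin := finite_maximal (isClosed_univ (X := π.fiber η))
  haveI : Finite {ξ : π.fiber η // ξ ∈ (Set.univ : Set (π.fiber η)) ∧
      ∀ b ∈ (Set.univ : Set (π.fiber η)), b ⤳ ξ → b = ξ} := hΞfin.to_subtype
  set Ξ := {ξ : π.fiber η // ξ ∈ (Set.univ : Set (π.fiber η)) ∧
      ∀ b ∈ (Set.univ : Set (π.fiber η)), b ⤳ ξ → b = ξ} with hΞdef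
  let pt : Ξ → X := fun ξ => π.fiberι η ξ.1
  have hpt : ∀ ξ, π (pt ξ) = η := fun ξ => (π.fiberHomeo η ξ.1).2
  have hlift : ∀ x, π x = η → ∃ a, π.fiberι η a = x := fun x hx =>
    ⟨(π.fiberHomeo η).symm ⟨x, hx⟩, by simp⟩
  have hcomp : ∀ x, π x = η → ∃ ξ, pt ξ ⤳ x := fun x hx => by
    obtain ⟨a, rfl⟩ := hlift x hx
    obtain ⟨ξ, hξ, hξa, hmax⟩ := exists_maximal isClosed_univ (Set.mem_univ a)
    exact ⟨⟨ξ, hξ, hmax⟩, hξa.map (π.fiberι η).continuous⟩
  have hπgen : π (genericPoint X) = genericPoint Y := by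
    obtain ⟨x, hx⟩ := π.surjective (genericPoint Y)
    have h := (genericPoint_specializes x).map π.continuous
    rw [hx] at h
    exact (h.antisymm (genericPoint_specializes _)).eq
  have hηgen : η ≠ genericPoint Y := by
    rintro rfl
    have hF : IsField (Y.presheaf.stalk (genericPoint Y)) := Field.toIsField Y.functionField
    rw [ringKrullDim_eq_zero_of_isField hF] at hη
    exact zero_ne_one hη
  have hdim : ∀ ξ, ringKrullDim (X.presheaf.stalk (pt ξ)) = 1 := fun ξ => by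
    refine le_antisymm ?_ ?_
    · have := dim_le_of_maximal π (pt ξ) fun b hb hbξ => by
        obtain ⟨a, rfl⟩ := hlift b (hb.trans (hpt ξ))
        rw [ξ.2.2 a (Set.mem_univ a) ((π.fiberι η).isEmbedding.isInducing.specializes_iff.1 hbξ)]
      rw [hpt ξ, hη] at this
      exact this
    · obtain ⟨n, hn⟩ := AffCodimLib.exists_nat_dim (pt ξ)
      have h0 := dim_ne_zero (pt ξ) fun h => hηgen ((hpt ξ).symm.trans ((congrArg π h).trans hπgen))
      rw [hn] at h0 ⊢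
      have : n ≠ 0 := fun h => h0 (by rw [h]; rfl)
      exact_mod_cast (show 1 ≤ n by omega)
  choose I hI hsupp using fun ξ => hX (pt ξ) (hdim ξ)
  -- the finite set in an affine open
  have hSfin : (w '' (g ⁻¹' {y})).Finite := hgfin.image w
  have hSπ : ∀ x ∈ w '' (g ⁻¹' {y}), π x = y := by
    rintro _ ⟨p, hp, rfl⟩
    exact (Scheme.Hom.comp_apply w π p).symm.trans hp
  obtain ⟨O, hO, hSO⟩ := exists_affine_finset hπ y hSfin.toFinset fun x hx =>
    hSπ x ((Set.Finite.mem_toFinset _).1 hx)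
  set S := {x : X // x ∈ w '' (g ⁻¹' {y})}
  haveI : Finite S := hSfin.to_subtype
  have hsO : ∀ s : S, s.1 ∈ O := fun s => hSO _ ((Set.Finite.mem_toFinset _).2 s.2)
  have hclosed : ∀ s : S, IsClosed ({s.1} : Set X) := by
    rintro ⟨_, p, hp, rfl⟩
    have hset : IsClosed (g ⁻¹' {y}) := hy.preimage g.continuous
    have h : closure ({p} : Set W) ⊆ g ⁻¹' {y} := closure_minimal (Set.singleton_subset_iff.2 hp) hset
    have hfin' : (closure ({p} : Set W)).Finite := hgfin.subset h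
    have hp' : IsClosed ({p} : Set W) := by
      rw [← closure_eq_iff_isClosed]
      refine Set.Subset.antisymm (fun q hq => ?_) subset_closure
      by_contra hne
      have hgq : g q = g p := (h hq).trans (hp : g p = y).symm
      have hqV : p ∈ g ⁻¹ᵁ V' := show g p ∈ V' by rw [show g p = y from hp]; exact hyV'
      have hq' : q ∈ g ⁻¹ᵁ V' := show g q ∈ V' by rw [hgq]; exact hqV
      have hsp : (⟨p, hqV⟩ : (g ⁻¹ᵁ V').toScheme) ⤳ ⟨q, hq'⟩ := by
        rw [← (g ⁻¹ᵁ V').ι.isEmbedding.isInducing.specializes_iff]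
        exact specializes_iff_mem_closure.2 hq
      have hdisc := (g ∣_ V').isDiscrete_preimage_singleton ((g ∣_ V') ⟨p, hqV⟩)
      rw [isDiscrete_iff_discreteTopology] at hdisc
      have hmemq : (⟨q, hq'⟩ : (g ⁻¹ᵁ V').toScheme) ∈ (g ∣_ V') ⁻¹' {(g ∣_ V') ⟨p, hqV⟩} :=
        Subtype.ext ((morphismRestrict_base_coe g V' ⟨q, hq'⟩).trans
          (hgq.trans (morphismRestrict_base_coe g V' ⟨p, hqV⟩).symm))
      have hs' : (⟨⟨p, hqV⟩, rfl⟩ : ↥((g ∣_ V') ⁻¹' {(g ∣_ V') ⟨p, hqV⟩})) ⤳ ⟨⟨q, hq'⟩, hmemq⟩ := by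
        rw [← IsInducing.subtypeVal.specializes_iff]; exact hsp
      exact hne (congrArg (fun e : ↥((g ∣_ V') ⁻¹' {(g ∣_ V') ⟨p, hqV⟩}) => e.1.1) hs'.eq).symm
    simpa [Set.image_singleton] using w.isClosedEmbedding.isClosedMap _ hp'
  haveI : Nonempty O := by
    obtain ⟨p, hp⟩ := hgsurj y
    exact ⟨⟨w p, hsO ⟨w p, p, hp, rfl⟩⟩⟩
  have hInz : ∀ ξ, (I ξ).ideal ⟨O, hO⟩ ≠ ⊥ := fun ξ hbot => by
    have hgO : genericPoint X ∈ O := by
      obtain ⟨x⟩ := ‹Nonempty O›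
      exact (genericPoint_specializes x.1).mem_open O.isOpen x.2
    have h := (Set.ext_iff.1 ((I ξ).coe_support_inter ⟨O, hO⟩) (genericPoint X)).2 ⟨by
      rw [Scheme.mem_zeroLocus_iff]
      intro r hr
      rw [hbot] at hr
      rw [(Submodule.mem_bot _).1 hr, Scheme.basicOpen_zero]
      exact id, hgO⟩
    rw [hsupp] at h
    have h' : pt ξ = genericPoint X :=
      ((specializes_iff_mem_closure.2 h.1).antisymm (genericPoint_specializes _)).eq
    exact hηgen ((hpt ξ).symm.trans ((congrArg π h').trans hπgen))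
  haveI : IsNoetherianRing Γ(X, O) := IsLocallyNoetherian.component_noetherian ⟨O, hO⟩
  have hcut : ∀ ξ, ∃ (f : Γ(X, O)) (N : X.Opens), (∀ s : S, s.1 ∈ N) ∧
      ∀ x ∈ N, (pt ξ ⤳ x ↔ x ∉ X.basicOpen f) := fun ξ => by
    obtain ⟨f, hf, hfm⟩ := exists_mem_notMem ((I ξ).ideal ⟨O, hO⟩) (hInz ξ) (IsNoetherian.noetherian _)
      (fun s : S => (hO.primeIdealOf ⟨s.1, hsO s⟩).asIdeal)
      (fun s => hO.primeIdealOf_isMaximal_of_isClosed _ (hclosed s)) (fun a b hab => Subtype.ext (by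
        have := congrArg hO.fromSpec (PrimeSpectrum.ext hab :
          hO.primeIdealOf ⟨a.1, hsO a⟩ = hO.primeIdealOf ⟨b.1, hsO b⟩)
        rwa [hO.fromSpec_primeIdealOf, hO.fromSpec_primeIdealOf] at this))
    choose N hsN hNO hN using fun s : S => exists_nbhd_cut (I ξ) (hI ξ) hO (hsO s) hf (hfm s)
    refine ⟨f, ⨆ s, N s, fun s => Opens.mem_iSup.2 ⟨s, hsN s⟩, fun x hx => ?_⟩
    obtain ⟨s, hs⟩ := Opens.mem_iSup.1 hx
    rw [← hN s x hs, ← SetLike.mem_coe, hsupp, specializes_iff_mem_closure]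
  choose f N hsN hN using hcut
  -- shrink the base
  let good : Set W := w ⁻¹' (O : Set X) ∩ ⋂ ξ, w ⁻¹' (N ξ : Set X)
  have hgood : IsOpen good := (O.isOpen.preimage w.continuous).inter
    (isOpen_iInter_of_finite fun ξ => (N ξ).isOpen.preimage w.continuous)
  let V₁ : Y.Opens := ⟨(g '' goodᶜ)ᶜ, (g.isClosedMap _ hgood.isClosed_compl).isOpen_compl⟩
  have hyV₁ : y ∈ V₁ := by
    rintro ⟨p, hp, hpy⟩
    exact hp ⟨hsO ⟨w p, p, hpy, rfl⟩, Set.mem_iInter.2 fun ξ => hsN ξ ⟨w p, p, hpy, rfl⟩⟩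
  obtain ⟨V, hV, hyV, hVle⟩ := exists_isAffineOpen_mem_and_subset (x := y) (U := V' ⊓ V₁) ⟨hyV', hyV₁⟩
  have hpg : ∀ p ∈ g ⁻¹ᵁ V, p ∈ good := fun p hp => by
    by_contra h
    exact (hVle hp).2 ⟨p, h, rfl⟩
  have hWV : IsAffineOpen (g ⁻¹ᵁ V) := by
    have hle : V ≤ V' := fun v hv => (hVle hv).1
    have h := (hV.preimage_of_isOpenImmersion V'.ι (by rw [Scheme.Opens.opensRange_ι]; exact hle)).preimage (g ∣_ V')
    have h2 := h.image_of_isOpenImmersion (g ⁻¹ᵁ V').ι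
    rwa [image_morphismRestrict_preimage, Scheme.Hom.image_preimage_eq_opensRange_inf, Scheme.Opens.opensRange_ι,
      inf_eq_right.2 hle] at h2
  have hle : g ⁻¹ᵁ V ≤ w ⁻¹ᵁ O := fun p hp => (hpg p hp).1
  haveI : Nonempty (g ⁻¹ᵁ V : W.Opens) := by
    obtain ⟨p, hp⟩ := hgsurj y
    exact ⟨⟨p, show g p ∈ V from hp.symm ▸ hyV⟩⟩
  haveI : Nonempty V := ⟨⟨y, hyV⟩⟩
  letI : Algebra Γ(Y, V) Γ(W, g ⁻¹ᵁ V) := (g.appLE V (g ⁻¹ᵁ V) le_rfl).hom.toAlgebra
  have halg : algebraMap Γ(Y, V) Γ(W, g ⁻¹ᵁ V) = (g.app V).hom := by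
    show (g.appLE V (g ⁻¹ᵁ V) le_rfl).hom = _
    rw [Scheme.Hom.appLE_eq_app]
  haveI : Module.Finite Γ(Y, V) Γ(W, g ⁻¹ᵁ V) := by
    have h := finite_app_of_le g (V' := V') hV (fun v hv => (hVle hv).1)
    rw [← halg] at h
    exact RingHom.finite_algebraMap.1 h
  haveI := LocFFLib.isIntegrallyClosed_sections hYn V
  have hinj : Function.Injective (algebraMap Γ(Y, V) Γ(W, g ⁻¹ᵁ V)) := by
    rw [injective_iff_map_eq_zero, halg]
    intro a ha
    by_contra ha0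
    have hne : Y.basicOpen a ≠ ⊥ := fun h => ha0 ((basicOpen_eq_bot_iff a).1 h)
    obtain ⟨v, hv⟩ := (Y.basicOpen a).ne_bot_iff_nonempty.1 hne
    obtain ⟨p, hp⟩ := hgsurj v
    have : p ∈ W.basicOpen (g.app V a) := by
      rw [← Scheme.preimage_basicOpen]
      exact show g p ∈ Y.basicOpen a from hp.symm ▸ hv
    rw [ha, Scheme.basicOpen_zero] at this
    exact this
  haveI := Fintype.ofFinite Ξ
  let fB : Ξ → Γ(W, g ⁻¹ᵁ V) := fun ξ => w.appLE O (g ⁻¹ᵁ V) hle (f ξ)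
  refine ⟨V, hV, hyV, ∏ ξ, (minpoly Γ(Y, V) (fB ξ)).coeff 0, fun z hz => ?_⟩
  rw [← mem_primeIdealOf_iff hV hz, (hV.primeIdealOf ⟨z, hz⟩).isPrime.prod_mem_iff]
  have hfB : ∀ (ξ : Ξ) (p : W) (hp : p ∈ g ⁻¹ᵁ V),
      fB ξ ∈ (hWV.primeIdealOf ⟨p, hp⟩).asIdeal ↔ pt ξ ⤳ w p := fun ξ p hp => by
    rw [mem_primeIdealOf_iff hWV hp, hN ξ (w p) (Set.mem_iInter.1 (hpg p hp).2 ξ)]
    show p ∉ W.basicOpen (w.appLE O (g ⁻¹ᵁ V) hle (f ξ)) ↔ _
    rw [Scheme.basicOpen_appLE]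
    exact ⟨fun h h' => h ⟨hp, h'⟩, fun h h' => h h'.2⟩
  constructor
  · rintro ⟨ξ, -, hξ⟩
    obtain ⟨Q, hQ, hQc, hQf⟩ := (coeff_zero_mem_iff hinj (fB ξ) _).1 hξ
    let q : PrimeSpectrum Γ(W, g ⁻¹ᵁ V) := ⟨Q, hQ⟩
    set p := hWV.fromSpec q with hpdef
    have hp : p ∈ g ⁻¹ᵁ V := hWV.range_fromSpec.subset ⟨q, rfl⟩
    have hpq : hWV.primeIdealOf ⟨p, hp⟩ = q :=
      hWV.fromSpec.isOpenEmbedding.injective (hWV.fromSpec_primeIdealOf _)
    have hgp : g p = z := by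
      have h := IsAffineOpen.comap_primeIdealOf_appLE (f := g) V hV (g ⁻¹ᵁ V) hWV le_rfl hp
      rw [hpq] at h
      have h2 : hV.primeIdealOf ⟨g p, hp⟩ = hV.primeIdealOf ⟨z, hz⟩ := h.symm.trans (PrimeSpectrum.ext hQc)
      have h3 := congrArg hV.fromSpec h2
      rwa [hV.fromSpec_primeIdealOf, hV.fromSpec_primeIdealOf] at h3
    have hsp : pt ξ ⤳ w p := (hfB ξ p hp).1 (by rw [hpq]; exact hQf)
    have h := hsp.map π.continuous
    rw [hpt, ← Scheme.Hom.comp_apply] at h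
    exact hgp ▸ h
  · intro hηz
    obtain ⟨p₁, hp₁⟩ := hgsurj η
    obtain ⟨p, hp₁p, hgp⟩ : ∃ p, p₁ ⤳ p ∧ g p = z := by
      have hc := g.isClosedMap (closure {p₁}) isClosed_closure
      obtain ⟨p, hp, hgp⟩ := hc.stableUnderSpecialization hηz ⟨p₁, subset_closure rfl, hp₁⟩
      exact ⟨p, specializes_iff_mem_closure.2 hp, hgp⟩
    obtain ⟨ξ, hξ⟩ := hcomp (w p₁) ((Scheme.Hom.comp_apply w π p₁).symm.trans hp₁)
    have hp : p ∈ g ⁻¹ᵁ V := show g p ∈ V from hgp.symm ▸ hz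
    refine ⟨ξ, Finset.mem_univ _, (coeff_zero_mem_iff hinj (fB ξ) _).2
      ⟨_, (hWV.primeIdealOf ⟨p, hp⟩).isPrime, ?_,
        (hfB ξ p hp).2 (hξ.trans (hp₁p.map w.continuous))⟩⟩
    subst hgp
    exact congrArg PrimeSpectrum.asIdeal
      (IsAffineOpen.comap_primeIdealOf_appLE (f := g) V hV (g ⁻¹ᵁ V) hWV le_rfl hp)

end QFactDescLib
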