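import Groth.Agent.QFactDescLib.Dim
import Groth.Agent.RelProjLib.LocProj
import Groth.Agent.ProjBunLib.Props
import Groth.Agent.AmpleLib.HProjBasic
import Groth.Agent.ProjKLib.Reg
import Groth.Agent.AmpleDevLib.Pull
import Groth.Agent.AmpleThLib.FiniteSet
import Groth.Agent.FlatClosureLib.Main

/-!
# Quasi-sections of equidimensional locally projective morphisms
-/

set_option autoImplicit false
set_option backward.isDefEq.respectTransparency false
set_option backward.isDefEq.respectTransparency.types false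

universe u

open CategoryTheory CategoryTheory.Limits AlgebraicGeometry TopologicalSpace Topology

namespace QFactDescLib

variable {X Y : Scheme.{u}} {π : X ⟶ Y}

theorem isProper (hπ : RelProj.IsLocallyProjective π) : IsProper π := by
  choose U hU hH using RelProjLib.isLocallyProjective_iff.1 hπ
  exact IsZariskiLocalAtTarget.of_iSup_eq_top (P := @IsProper) U
    (top_le_iff.1 fun s _ => Opens.mem_iSup.2 ⟨s, hU s⟩) fun s => ProjBunLib.isProper_of_isHProjective (hH s)

/-- Finitely many points over a point lie in a common affine open. -/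
theorem exists_affine_finset (hπ : RelProj.IsLocallyProjective π) (y : Y) (s : Finset X) (hs : ∀ x ∈ s, π x = y) :
    ∃ O : X.Opens, IsAffineOpen O ∧ ∀ x ∈ s, x ∈ O := by
  obtain ⟨U, hyU, hH⟩ := RelProjLib.isLocallyProjective_iff.1 hπ y
  obtain ⟨V, hV, hyV, hVU⟩ := exists_isAffineOpen_mem_and_subset (x := y) (U := U) hyU
  set g : Spec Γ(Y, V) ⟶ U := hV.isoSpec.inv ≫ Y.homOfLE hVU with hg
  obtain ⟨n, i, hi, -⟩ := AmpleLib.isHProjective_baseChange hH g
  haveI := hi
  have hA : CohB1.IsAmple (KFlatLib.pb i (KRRRegLib.O1 n (Spec Γ(Y, V)))) :=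
    AmpleDevLib.isAmple_pb i (KRRRegLib.isInvertible_O1 n (Spec Γ(Y, V))) (ProjKLib.isAmple_O1 n Γ(Y, V))
  set e : pullback (π ∣_ U) g ⟶ X := pullback.fst (π ∣_ U) g ≫ (π ⁻¹ᵁ U).ι with he
  have hmem : ∀ x ∈ s, ∃ p, e p = x := fun x hx => by
    have hxU : π x ∈ U := (hs x hx).symm ▸ hyU
    let x' : (π ⁻¹ᵁ U).toScheme := ⟨x, hxU⟩
    have hr : (π ∣_ U) x' ∈ Set.range g := by
      refine ⟨hV.isoSpec.hom ⟨y, hyV⟩, Subtype.ext ?_⟩
      rw [hg, Scheme.Hom.comp_apply, Scheme.hom_inv_apply]
      exact ((Scheme.homOfLE_apply hVU _).trans (hs x hx).symm).trans (morphismRestrict_base_coe π U x').symm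
    obtain ⟨p, hp⟩ : x' ∈ Set.range (pullback.fst (π ∣_ U) g) := by
      rw [Scheme.Pullback.range_fst]; exact hr
    exact ⟨p, by rw [he, Scheme.Hom.comp_apply, hp]; rfl⟩
  choose f hf using hmem
  classical
  obtain ⟨O, hO, hsO⟩ := AmpleThLib.exists_affineOpen_finset hA
    (s.attach.image fun x : {x : X // x ∈ s} => f x.1 x.2)
  exact ⟨e ''ᵁ O, hO.image_of_isOpenImmersion e, fun x hx =>
    ⟨f x hx, hsO _ (Finset.mem_image.2 ⟨⟨x, hx⟩, Finset.mem_attach _ _, rfl⟩), hf x hx⟩⟩

/-- A closed set of a Noetherian sober space has finitely many maximal points. -/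
theorem finite_maximal {A : Type*} [TopologicalSpace A] [QuasiSober A] [T0Space A] [NoetherianSpace A] {F : Set A}
    (hF : IsClosed F) : {ξ ∈ F | ∀ b ∈ F, b ⤳ ξ → b = ξ}.Finite := by
  haveI : QuasiSober F := hF.isClosedEmbedding_subtypeVal.quasiSober
  refine ((NoetherianSpace.finite_irreducibleComponents (α := F)).biUnion
    (t := fun Z => Subtype.val '' {g : F | IsGenericPoint g Z}) fun Z _ =>
      (Set.Subsingleton.finite fun a ha b hb => IsGenericPoint.eq ha hb).image _).subset ?_
  rintro ξ ⟨hξ, hmax⟩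
  have hZ : irreducibleComponent (⟨ξ, hξ⟩ : F) ∈ irreducibleComponents F :=
    irreducibleComponent_mem_irreducibleComponents _
  obtain ⟨g, hg⟩ := QuasiSober.sober hZ.prop (isClosed_of_mem_irreducibleComponents _ hZ)
  refine Set.mem_biUnion hZ ⟨g, hg, hmax g.1 g.2 ?_⟩
  exact (hg.specializes mem_irreducibleComponent).map continuous_subtype_val

theorem finite_of_dim_le_zero {A : Type*} [TopologicalSpace A] [QuasiSober A] [T0Space A] [NoetherianSpace A]
    {F : Set A} (hF : IsClosed F) (h : topologicalKrullDim F ≤ ((0 : ℕ) : WithBot ℕ∞)) : F.Finite := by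
  haveI : QuasiSober F := hF.isClosedEmbedding_subtypeVal.quasiSober
  refine (finite_maximal hF).subset fun ξ hξ => ⟨hξ, fun b hb hbξ => ?_⟩
  by_contra hne
  have hc : FibDimLib.IsSpecChain (![⟨b, hb⟩, ⟨ξ, hξ⟩] : Fin 2 → F) := by
    refine ⟨?_, ?_⟩
    · intro i j hij
      fin_cases i <;> fin_cases j <;> simp_all
    · intro i j hij
      rw [← IsInducing.subtypeVal.specializes_iff]
      fin_cases i <;> fin_cases j <;> first | exact specializes_rfl | exact hbξ | simp at hij
  have := hc.le_topologicalKrullDim.trans h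
  norm_cast at this

/-- Cutting by affine opens gives a point over the generic point with finite fibre of its closure. -/
theorem exists_quasiSection [IsNoetherian X] [IsIntegral Y] (hπ : RelProj.IsLocallyProjective π)
    (d : ℕ) (hd : ∀ y : Y, topologicalKrullDim (↥(π.fiber y) : Type u) = d)
    (y : Y) (hy : IsClosed ({y} : Set Y)) :
    ∃ z : X, π z = genericPoint Y ∧ (closure {z} ∩ π ⁻¹' {y}).Finite := by
  haveI := isProper hπ
  set q := π.fiberι (genericPoint Y)
  haveI : IsProper (π.fiberToSpecResidueField (genericPoint Y)) := MorphismProperty.pullback_snd _ _ inferInstance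
  suffices ∀ j ≤ d, ∃ Z : Set X, IsClosed Z ∧ topologicalKrullDim ↥(Z ∩ π ⁻¹' {y}) ≤ ((d - j : ℕ) : WithBot ℕ∞) ∧
      ((d - j : ℕ) : WithBot ℕ∞) ≤ topologicalKrullDim ↥(q ⁻¹' Z) by
    obtain ⟨Z, hZ, h1, h2⟩ := this d le_rfl
    rw [Nat.sub_self] at h1 h2
    haveI : QuasiSober ↥(q ⁻¹' Z) := (hZ.preimage q.continuous).isClosedEmbedding_subtypeVal.quasiSober
    obtain ⟨c, -⟩ := FibDimLib.exists_specChain h2
    obtain ⟨t, ht⟩ := c 0
    exact ⟨q t, (π.fiberHomeo _ t).2, (finite_of_dim_le_zero (hZ.inter (hy.preimage π.continuous)) h1).subset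
      (Set.inter_subset_inter_left _ (closure_minimal (Set.singleton_subset_iff.2 ht) hZ))⟩
  intro j
  induction j with
  | zero =>
    refine fun _ => ⟨Set.univ, isClosed_univ, ?_, ?_⟩
    · rw [Set.univ_inter, tsub_zero, ← hd y]
      exact ((π.fiberHomeo y).isHomeomorph.topologicalKrullDim_eq _).ge
    · rw [Set.preimage_univ, tsub_zero, ← hd (genericPoint Y)]
      exact ((Homeomorph.Set.univ _).isHomeomorph.topologicalKrullDim_eq _).ge
  | succ j ih =>
    intro hj
    obtain ⟨Z, hZ, h1, h2⟩ := ih (by omega)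
    obtain ⟨m, hm⟩ : ∃ m, d - j = m + 1 := ⟨d - j - 1, by omega⟩
    rw [show d - (j + 1) = m by omega]
    rw [hm] at h1 h2
    have hF : IsClosed (Z ∩ π ⁻¹' {y}) := hZ.inter (hy.preimage π.continuous)
    obtain ⟨O, hO, hsO⟩ := exists_affine_finset hπ y (finite_maximal hF).toFinset
      fun x hx => ((Set.Finite.mem_toFinset _).1 hx).1.2
    refine ⟨Z \ O, hZ.sdiff O.isOpen, ?_, ?_⟩
    · refine dim_drop hF ((hZ.sdiff O.isOpen).inter (hy.preimage π.continuous))
        (Set.inter_subset_inter_left _ Set.sdiff_subset) (fun ξ hξ hmax hξG => ?_) h1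
      exact hξG.1.2 (hsO ξ ((Set.Finite.mem_toFinset _).2 ⟨hξ, hmax⟩))
    · exact dim_cut_affine (π.fiberToSpecResidueField (genericPoint Y)) (hO.preimage q)
        (hZ.preimage q.continuous) h2

end QFactDescLib
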